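import Groth.Agent.Lib.HilbSam.Dim
import Mathlib.RingTheory.Regular.RegularSequence

/-!
Systems of parameters of modules over semi-local Noetherian rings.
-/

set_option autoImplicit false

universe u

open Filter

namespace Groth.Agent.HilbSam

variable {A : Type u} [CommRing A] [IsNoetherianRing A] {M : Type u} [AddCommGroup M] [Module A M]
  [Module.Finite A M]

/-- `s` elements of the Jacobson radical modulo which `M` has finite length bound the dimension by `s`. -/
theorem supportDim_le_of_finiteLength {s : ℕ} (x : Fin s → A) (hx : ∀ i, x i ∈ Ring.jacobson A)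
    (h : IsFiniteLength A (M ⧸ Ideal.span (Set.range x) • (⊤ : Submodule A M))) :
    Module.supportDim A M ≤ s := by
  obtain ⟨p, hp, N, hp'⟩ := polyLT_hs x h
  exact (supportDim_le_iff s).2 (dimLE_of_hs (Ideal.span_le.2 (Set.range_subset_iff.2 hx)) h hp
    (Filter.eventually_atTop.2 ⟨N, hp'⟩))

/-- List version of `supportDim_le_of_finiteLength`. -/
theorem supportDim_le_of_list (xs : List A) (hx : ∀ a ∈ xs, a ∈ Ring.jacobson A)
    (h : IsFiniteLength A (M ⧸ Ideal.ofList xs • (⊤ : Submodule A M))) :
    Module.supportDim A M ≤ xs.length := by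
  refine supportDim_le_of_finiteLength xs.get (fun i => hx _ (xs.get_mem i)) ?_
  rwa [show Ideal.span (Set.range xs.get) = Ideal.ofList xs by rw [Set.range_list_get]]

omit [IsNoetherianRing A] [Module.Finite A M] in
theorem exists_natCast_eq_of_le {n : ℕ} (h : Module.supportDim A M ≤ n) [Nontrivial M] :
    ∃ d : ℕ, d ≤ n ∧ Module.supportDim A M = d := by
  rcases hb : Module.supportDim A M with _ | _ | d
  · exact absurd hb (Module.supportDim_ne_bot_of_nontrivial A M)
  · rw [hb] at h
    exact absurd (top_le_iff.1 (WithBot.coe_le_coe.1 h)) (ENat.natCast_ne_top n)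
  · rw [hb] at h
    exact ⟨d, ENat.natCast_le_natCast.1 (WithBot.coe_le_coe.1 h), rfl⟩

variable [Finite (MaximalSpectrum A)]

theorem exists_supportDim_eq_natCast [Nontrivial M] : ∃ d : ℕ, Module.supportDim A M = d := by
  obtain ⟨e, q, hq, hqe⟩ := exists_hs_poly (A := A) (I := Ring.jacobson A) (N := M)
    isFiniteLength_quotient_jacobson
  have h := (supportDim_le_iff e).2 (dimLE_of_hs le_rfl isFiniteLength_quotient_jacobson
    (Polynomial.degreeLT_mono (Nat.le_succ e) hq) hqe)
  obtain ⟨d, -, hd⟩ := exists_natCast_eq_of_le h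
  exact ⟨d, hd⟩

theorem exists_parameters_list {d : ℕ} (hd : Module.supportDim A M ≤ d) :
    ∃ xs : List A, xs.length = d ∧ (∀ a ∈ xs, a ∈ Ring.jacobson A) ∧
      IsFiniteLength A (M ⧸ Ideal.ofList xs • (⊤ : Submodule A M)) := by
  obtain ⟨x, hx, hfin⟩ := exists_parameters_module hd
  refine ⟨List.ofFn x, List.length_ofFn, fun a ha => ?_, ?_⟩
  · obtain ⟨i, rfl⟩ := (List.mem_ofFn' x a).1 ha
    exact hx i
  · rwa [show Ideal.ofList (List.ofFn x) = Ideal.span (Set.range x) from
      congrArg Ideal.span (Set.ext fun a => List.mem_ofFn' x a)]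

omit [IsNoetherianRing A] [Finite (MaximalSpectrum A)] in
theorem mem_support_quotient_iff (J : Ideal A) (P : PrimeSpectrum A) :
    P ∈ Module.support A (M ⧸ J • (⊤ : Submodule A M)) ↔ P ∈ Module.support A M ∧ J ≤ P.asIdeal := by
  rw [Module.support_quotient]
  rfl

omit [Finite (MaximalSpectrum A)] in
theorem isFiniteLength_quotient_quotient_iff (J K : Ideal A) :
    IsFiniteLength A ((M ⧸ J • (⊤ : Submodule A M)) ⧸ K • (⊤ : Submodule A (M ⧸ J • (⊤ : Submodule A M)))) ↔
      IsFiniteLength A (M ⧸ (J ⊔ K) • (⊤ : Submodule A M)) := by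
  constructor
  · intro h
    refine isFiniteLength_of_support fun P hP => isMaximal_of_mem_support h ?_
    rw [mem_support_quotient_iff, sup_le_iff] at hP
    exact (mem_support_quotient_iff _ _).2 ⟨(mem_support_quotient_iff _ _).2 ⟨hP.1, hP.2.1⟩, hP.2.2⟩
  · intro h
    refine isFiniteLength_of_support fun P hP => isMaximal_of_mem_support h ?_
    rw [mem_support_quotient_iff, mem_support_quotient_iff] at hP
    exact (mem_support_quotient_iff _ _).2 ⟨hP.1.1, sup_le hP.1.2 hP.2⟩

/-- `dim M ≤ dim (M / (x₁, …, xₖ) M) + k`. -/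
theorem supportDim_le_quotient_add {d : ℕ} (xs : List A) (hxs : ∀ a ∈ xs, a ∈ Ring.jacobson A)
    (hd : Module.supportDim A (M ⧸ Ideal.ofList xs • (⊤ : Submodule A M)) ≤ d) :
    Module.supportDim A M ≤ (xs.length + d : ℕ) := by
  obtain ⟨ys, hys, hy, hfin⟩ := exists_parameters_list hd
  rw [isFiniteLength_quotient_quotient_iff, ← Ideal.ofList_append] at hfin
  refine (supportDim_le_of_list (xs ++ ys) ?_ hfin).trans_eq (by rw [List.length_append, hys])
  intro a ha
  exact (List.mem_append.1 ha).elim (hxs a) (hy a)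

end Groth.Agent.HilbSam
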