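import Groth.Agent.Lib.HilbSam.Stable
import Mathlib.RingTheory.Length
import Mathlib.RingTheory.Support
import Mathlib.RingTheory.Artinian.Ring
import Mathlib.RingTheory.Jacobson.Ring
import Mathlib.RingTheory.HopkinsLevitzki
import Mathlib.Algebra.Module.Torsion.Basic
import Mathlib.RingTheory.KrullDimension.Basic
import Mathlib.NumberTheory.Bernoulli

/-!
Hilbert–Serre: lengths of eventually finitely generated families of subquotients are eventually
polynomial, and the Hilbert–Samuel function of a finite module.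
-/

set_option autoImplicit false

universe u v

open Polynomial

namespace Groth.Agent.HilbSam

variable {A : Type u} [CommRing A] {M : Type v} [AddCommGroup M] [Module A M]

theorem length_eq_ker_add_range {N : Type*} [AddCommGroup N] [Module A N] (f : M →ₗ[A] N) :
    Module.length A M = Module.length A (LinearMap.ker f) + Module.length A (LinearMap.range f) := by
  refine Module.length_eq_add_of_exact (LinearMap.ker f).subtype f.rangeRestrict
    (Submodule.subtype_injective _) f.surjective_rangeRestrict ?_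
  rw [LinearMap.exact_iff, Submodule.range_subtype, LinearMap.ker_rangeRestrict]

/-- The length of `P / Q`. -/
noncomputable def relLen (Q P : Submodule A M) : ℕ∞ := Module.length A (P.map Q.mkQ)

theorem relLen_eq_quotient (Q P : Submodule A M) :
    relLen Q P = Module.length A (P ⧸ Q.comap P.subtype) := by
  have e : LinearMap.ker (Q.mkQ.comp P.subtype) = Q.comap P.subtype := by
    rw [LinearMap.ker_comp, Submodule.ker_mkQ]
  have e' : LinearMap.range (Q.mkQ.comp P.subtype) = P.map Q.mkQ := by
    rw [LinearMap.range_comp, Submodule.range_subtype]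
  exact (((Submodule.quotEquivOfEq _ _ e).symm.trans
    ((Q.mkQ.comp P.subtype).quotKerEquivRange.trans (LinearEquiv.ofEq _ _ e'))).length_eq).symm

theorem relLen_trans {Q P R : Submodule A M} (h1 : Q ≤ P) (h2 : P ≤ R) :
    relLen Q R = relLen Q P + relLen P R := by
  let g : R.map Q.mkQ →ₗ[A] M ⧸ P := (Submodule.mapQ Q P LinearMap.id h1).comp (R.map Q.mkQ).subtype
  have hr : LinearMap.range g = R.map P.mkQ := by
    rw [LinearMap.range_comp, Submodule.range_subtype, ← Submodule.map_comp]
    rfl
  have hk : LinearMap.ker g = (P.map Q.mkQ).comap (R.map Q.mkQ).subtype := by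
    ext ⟨y, hy⟩
    obtain ⟨m, hm, rfl⟩ := hy
    simp only [g, LinearMap.mem_ker, LinearMap.comp_apply, Submodule.mem_comap, Submodule.subtype_apply]
    change (P.mkQ m = 0) ↔ Q.mkQ m ∈ P.map Q.mkQ
    rw [← LinearMap.mem_ker, Submodule.ker_mkQ, ← Submodule.mem_comap, Submodule.comap_map_mkQ,
      sup_eq_right.2 h1]
  rw [relLen, length_eq_ker_add_range g]
  congr 1
  · rw [hk]
    exact (Submodule.comapSubtypeEquivOfLe (Submodule.map_mono h2)).length_eq
  · rw [hr]; rfl

theorem length_quotient_eq {Q P : Submodule A M} (h : Q ≤ P) :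
    Module.length A (M ⧸ Q) = relLen Q P + Module.length A (M ⧸ P) := by
  rw [← (Submodule.quotientQuotientEquivQuotient Q P h).length_eq]
  exact Module.length_eq_add_of_exact (P.map Q.mkQ).subtype (P.map Q.mkQ).mkQ
    (Submodule.subtype_injective _) (Submodule.mkQ_surjective _) (LinearMap.exact_subtype_mkQ _)

/-- Eventually given by a polynomial of degree `< d`. -/
def PolyLT (d : ℕ) (f : ℕ → ℕ) : Prop :=
  ∃ p ∈ Polynomial.degreeLT ℚ d, ∃ N, ∀ n, N ≤ n → (f n : ℚ) = p.eval (n : ℚ)

theorem exists_sum_range_eq {d : ℕ} {p : ℚ[X]} (hp : p ∈ degreeLT ℚ d) :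
    ∃ r ∈ degreeLT ℚ (d + 1), ∀ n : ℕ, ∑ i ∈ Finset.range n, p.eval (i : ℚ) = r.eval (n : ℚ) := by
  let S : ℕ → ℚ[X] := fun k => ∑ i ∈ Finset.range (k + 1),
    C (bernoulli i * ((k + 1).choose i) / (k + 1)) * X ^ (k + 1 - i)
  refine ⟨∑ k ∈ Finset.range d, p.coeff k • S k, ?_, fun n => ?_⟩
  · refine sum_mem fun k hk => Submodule.smul_mem _ _ (sum_mem fun i _ => mem_degreeLT.2 ?_)
    refine (degree_C_mul_X_pow_le _ _).trans_lt ?_
    rw [Finset.mem_range] at hk
    exact Nat.cast_lt.2 (by omega)
  · have hev : ∀ x : ℚ, p.eval x = ∑ k ∈ Finset.range d, p.coeff k * x ^ k := fun x => by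
      rcases eq_or_ne p 0 with rfl | hp0
      · simp
      · exact eval_eq_sum_range' ((natDegree_lt_iff_degree_lt hp0).2 (mem_degreeLT.1 hp)) x
    simp only [hev]
    rw [Finset.sum_comm, eval_finsetSum]
    refine Finset.sum_congr rfl fun k _ => ?_
    rw [← Finset.mul_sum, sum_range_pow, eval_smul, smul_eq_mul, eval_finsetSum]
    congr 1
    refine Finset.sum_congr rfl fun i _ => ?_
    simp only [eval_mul, eval_C, eval_pow, eval_X]
    ring

theorem polyLT_of_diff {d : ℕ} {p : ℚ[X]} (hp : p ∈ degreeLT ℚ d) {f : ℕ → ℕ} {N : ℕ}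
    (h : ∀ n, N ≤ n → (f (n + 1) : ℚ) - f n = p.eval (n : ℚ)) : PolyLT (d + 1) f := by
  have hshift : ∀ (e : ℕ) (q : ℚ[X]) (c : ℚ), q ∈ degreeLT ℚ e → q.comp (X + C c) ∈ degreeLT ℚ e := by
    intro e q c hq
    rcases eq_or_ne q 0 with rfl | hq0
    · simp
    have h1 := (natDegree_lt_iff_degree_lt hq0).2 (mem_degreeLT.1 hq)
    refine mem_degreeLT.2 (degree_le_natDegree.trans_lt (Nat.cast_lt.2 ?_))
    rwa [natDegree_comp, natDegree_X_add_C, mul_one]
  obtain ⟨r, hr, hrs⟩ := exists_sum_range_eq (hshift d p (N : ℚ) hp)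
  refine ⟨C (f N : ℚ) + r.comp (X + C (-(N : ℚ))), add_mem ?_ (hshift _ _ _ hr), N, fun n hn => ?_⟩
  · exact mem_degreeLT.2 (degree_C_le.trans_lt (Nat.cast_lt.2 (Nat.succ_pos d)))
  · obtain ⟨m, rfl⟩ : ∃ m, n = N + m := ⟨n - N, by omega⟩
    simp only [eval_add, eval_C, eval_comp, eval_X, Nat.cast_add, add_neg_cancel_comm]
    rw [← hrs]
    induction m with
    | zero => simp
    | succ m ih =>
      rw [Finset.sum_range_succ, ← add_assoc, ← add_assoc, ← ih (Nat.le_add_right _ _), eval_comp]
      simp only [eval_add, eval_X, eval_C]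
      have := h (N + m) (Nat.le_add_right _ _)
      push_cast at this ⊢
      rw [add_comm (m : ℚ) (N : ℚ)]
      linarith

theorem toNat_add' {a b : ℕ∞} (ha : a ≠ ⊤) (hb : b ≠ ⊤) : (a + b).toNat = a.toNat + b.toNat :=
  ENat.toNat_add ha hb

variable [IsNoetherianRing A] [IsNoetherian A M]

/-- Hilbert–Serre for families of subquotients. -/
theorem polyLT_relLen : ∀ (s : ℕ) (x : Fin s → A) (P Q : ℕ → Submodule A M),
    Raised x P → Raised x Q → (∀ n, Q n ≤ P n) →
    (∃ N₀, ∀ n ≥ N₀, P (n + 1) ≤ Q (n + 1) ⊔ mulS x (P n)) → (∀ n, relLen (Q n) (P n) ≠ ⊤) →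
    PolyLT s fun n => (relLen (Q n) (P n)).toNat := by
  intro s
  induction s with
  | zero =>
    intro x P Q hP hQ hle ⟨N₀, hgen⟩ hfin
    refine ⟨0, zero_mem _, N₀ + 1, fun n hn => ?_⟩
    obtain ⟨m, rfl⟩ : ∃ m, n = m + 1 := ⟨n - 1, by omega⟩
    have h1 : P (m + 1) ≤ Q (m + 1) := (hgen m (by omega)).trans (sup_le le_rfl (by simp [mulS]))
    have e : relLen (Q (m + 1)) (P (m + 1)) = 0 := by
      rw [relLen, Module.length_eq_zero_iff, Submodule.subsingleton_iff_eq_bot, ← LinearMap.le_ker_iff_map,
        Submodule.ker_mkQ]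
      exact h1
    simp [e]
  | succ s ih =>
    intro x P Q hP hQ hle hgen hfin
    let x' : Fin s → A := fun i => x i.castSucc
    let μ : M →ₗ[A] M := LinearMap.lsmul A M (x (Fin.last s))
    let R : ℕ → Submodule A M := fun n => P n ⊓ (Q (n + 1)).comap μ
    let Q' : ℕ → Submodule A M := fun n => Q (n + 1) ⊔ (P n).map μ
    have hR : Raised x R := fun i n m hm => ⟨hP i n m hm.1, by
      have := hQ i (n + 1) _ hm.2
      change x (Fin.last s) • x i • m ∈ Q (n + 1 + 1)
      rw [smul_comm]
      exact this⟩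
    have hRP : ∀ n, R n ≤ P n := fun n => inf_le_left
    have hQR : ∀ n, Q n ≤ R n := fun n m hm => ⟨hle n hm, hQ _ n m hm⟩
    have hQ' : ∀ n, Q' n ≤ P (n + 1) := fun n =>
      sup_le (hle _) (Submodule.map_le_iff_le_comap.2 fun m hm => hP _ n m hm)
    have hQ'' : ∀ n, Q (n + 1) ≤ Q' n := fun n => le_sup_left
    have iso : ∀ n, relLen (R n) (P n) = relLen (Q (n + 1)) (Q' n) := fun n => by
      have e : (Q (n + 1)).comap (μ.comp (P n).subtype) = (R n).comap (P n).subtype := by
        ext ⟨m, hm⟩
        simp [R]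
      have e2 : LinearMap.range ((Q (n + 1)).mkQ.comp (μ.comp (P n).subtype)) = (Q' n).map (Q (n + 1)).mkQ := by
        rw [LinearMap.range_comp, LinearMap.range_comp, Submodule.range_subtype, Submodule.map_sup,
          Submodule.mkQ_map_self, bot_sup_eq]
      have e3 : LinearMap.ker ((Q (n + 1)).mkQ.comp (μ.comp (P n).subtype)) = (R n).comap (P n).subtype := by
        rw [LinearMap.ker_comp, Submodule.ker_mkQ, e]
      rw [relLen_eq_quotient]
      exact ((Submodule.quotEquivOfEq _ _ e3).symm.trans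
        ((LinearMap.quotKerEquivRange _).trans (LinearEquiv.ofEq _ _ e2))).length_eq
    have sp1 : ∀ n, relLen (Q n) (P n) = relLen (Q n) (R n) + relLen (R n) (P n) := fun n =>
      relLen_trans (hQR n) (hRP n)
    have sp2 : ∀ n, relLen (Q (n + 1)) (P (n + 1)) = relLen (Q (n + 1)) (Q' n) + relLen (Q' n) (P (n + 1)) := fun n =>
      relLen_trans (hQ'' n) (hQ' n)
    have fin : ∀ n, relLen (Q n) (R n) ≠ ⊤ ∧ relLen (R n) (P n) ≠ ⊤ ∧ relLen (Q' n) (P (n + 1)) ≠ ⊤ :=
      fun n => by
        have a := hfin n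
        have b := hfin (n + 1)
        rw [sp1] at a
        rw [sp2] at b
        exact ⟨fun h => a (by rw [h, top_add]), fun h => a (by rw [h, add_top]), fun h => b (by rw [h, add_top])⟩
    obtain ⟨N1, hN1⟩ := exists_generated x P Q R hQ hR hgen hQR hRP
    obtain ⟨pK, hpK, NK, hK⟩ := ih x' R Q (fun i => hR _) (fun i => hQ _) hQR
      ⟨N1, fun n hn => (hN1 n hn).trans (sup_le le_sup_left (mulS_le_iff.2 fun i m hm => by
        induction i using Fin.lastCases with
        | last => exact Submodule.mem_sup_left hm.2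
        | cast i => exact Submodule.mem_sup_right (smul_mem_mulS (x := x') i hm)))⟩
      (fun n => (fin n).1)
    obtain ⟨N0, hN0⟩ := hgen
    obtain ⟨pC, hpC, NC, hC⟩ := ih x' (fun n => P (n + 1)) Q' (fun i n => hP _ (n + 1))
      (fun i n m hm => by
        obtain ⟨q, hq, _, ⟨p, hp, rfl⟩, rfl⟩ := Submodule.mem_sup.1 hm
        rw [smul_add]
        refine Submodule.add_mem_sup (hQ _ (n + 1) q hq) ⟨x' i • p, hP _ n p hp, ?_⟩
        exact map_smul μ _ _)
      hQ'
      ⟨N0, fun n hn => (hN0 (n + 1) (by omega)).trans (sup_le (le_sup_of_le_left (hQ'' _))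
        (mulS_le_iff.2 fun i m hm => by
          induction i using Fin.lastCases with
          | last => exact Submodule.mem_sup_left (Submodule.mem_sup_right ⟨m, hm, rfl⟩)
          | cast i => exact Submodule.mem_sup_right (smul_mem_mulS (x := x') i hm)))⟩
      (fun n => (fin n).2.2)
    refine polyLT_of_diff (p := pC - pK) (sub_mem hpC hpK) (N := max NK NC) fun n hn => ?_
    rw [sp2, sp1 n, ← iso, toNat_add' (fin n).1 (fin n).2.1, toNat_add' (fin n).2.1 (fin n).2.2, eval_sub,
      ← hK n (le_of_max_le_left hn), ← hC n (le_of_max_le_right hn)]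
    push_cast
    ring

omit [IsNoetherian A M] in
/-- A finite module whose support consists of maximal ideals has finite length. -/
theorem isFiniteLength_of_support [Module.Finite A M]
    (h : ∀ p ∈ Module.support A M, p.asIdeal.IsMaximal) : IsFiniteLength A M := by
  let B := A ⧸ Module.annihilator A M
  have : Ring.KrullDimLE 0 B := Ring.krullDimLE_zero_iff.2 fun I hI => by
    let J := I.comap (Ideal.Quotient.mk (Module.annihilator A M))
    have hJ : J.IsMaximal := h ⟨J, hI.comap _⟩ (by
      rw [Module.support_eq_zeroLocus, PrimeSpectrum.mem_zeroLocus]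
      intro a ha
      change Ideal.Quotient.mk _ a ∈ I
      rw [Ideal.Quotient.eq_zero_iff_mem.2 ha]
      exact I.zero_mem)
    have e : J.map (Ideal.Quotient.mk (Module.annihilator A M)) = I :=
      Ideal.map_comap_of_surjective _ Ideal.Quotient.mk_surjective I
    rw [← e]
    exact (Ideal.map_eq_top_or_isMaximal_of_surjective _ Ideal.Quotient.mk_surjective hJ).resolve_left
      (e ▸ hI.ne_top)
  have : IsArtinianRing B := isArtinianRing_iff_krullDimLE_zero.2 inferInstance
  let _ : Module B M := Module.quotientAnnihilator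
  have : IsScalarTower A B M := Module.IsTorsionBySet.isScalarTower _
  have : Module.Finite B M := Module.Finite.of_restrictScalars_finite A B M
  rw [← Module.length_ne_top_iff, Module.length_eq_of_surjective (R := B) Ideal.Quotient.mk_surjective]
  exact Module.length_ne_top

omit [IsNoetherianRing A] [IsNoetherian A M] in
/-- The support of a module of finite length consists of maximal ideals. -/
theorem isMaximal_of_mem_support {N : Type v} [AddCommGroup N] [Module A N] (h : IsFiniteLength A N)
    {p : PrimeSpectrum A} (hp : p ∈ Module.support A N) : p.asIdeal.IsMaximal := by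
  obtain ⟨_, _⟩ := isFiniteLength_iff_isNoetherian_isArtinian.1 h
  obtain ⟨g, v, hv⟩ := Submodule.fg_iff_exists_fin_generating_family.1 (IsNoetherian.noetherian (⊤ : Submodule A N))
  let f : A →ₗ[A] Fin g → N := LinearMap.pi fun i => LinearMap.toSpanSingleton A N (v i)
  have hker : LinearMap.ker f ≤ p.asIdeal := by
    intro a ha
    rw [Module.mem_support_iff_of_finite] at hp
    refine hp (Module.mem_annihilator.2 fun m => ?_)
    have hm : m ∈ Submodule.span A (Set.range v) := hv ▸ Submodule.mem_top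
    induction hm using Submodule.span_induction with
    | mem m hm => obtain ⟨i, rfl⟩ := hm; exact congrFun (LinearMap.mem_ker.1 ha) i
    | zero => simp
    | add a b _ _ h1 h2 => simp [h1, h2]
    | smul c m _ h1 => rw [smul_comm, h1, smul_zero]
  have h1 : IsArtinian A (A ⧸ LinearMap.ker f) :=
    isArtinian_of_injective f.quotKerEquivRange.toLinearMap f.quotKerEquivRange.injective
  have h2 : IsArtinian A (A ⧸ p.asIdeal) :=
    isArtinian_of_surjective _ (Submodule.factor hker) (Submodule.factor_surjective hker)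
  have : IsArtinianRing (A ⧸ p.asIdeal) := isArtinian_of_tower A h2
  exact Ideal.Quotient.maximal_of_isField _ (IsArtinianRing.isField_of_isDomain _)

/-- The Hilbert–Samuel function. -/
noncomputable def hs (I : Ideal A) (M : Type v) [AddCommGroup M] [Module A M] (n : ℕ) : ℕ :=
  (Module.length A (M ⧸ I ^ n • (⊤ : Submodule A M))).toNat

variable [Module.Finite A M]

theorem length_quotient_pow_ne_top {I : Ideal A}
    (hI : IsFiniteLength A (M ⧸ I • (⊤ : Submodule A M))) (n : ℕ) :
    Module.length A (M ⧸ I ^ n • (⊤ : Submodule A M)) ≠ ⊤ := by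
  rw [Module.length_ne_top_iff]
  refine isFiniteLength_of_support fun p hp => ?_
  rw [Module.support_quotient] at hp
  rcases n with _ | n
  · exact absurd (hp.2 (by simp : (1 : A) ∈ I ^ 0)) (fun h => p.2.ne_top ((Ideal.eq_top_iff_one _).2 h))
  refine isMaximal_of_mem_support hI ?_
  rw [Module.support_quotient]
  exact ⟨hp.1, (p.2.pow_le_iff (Nat.succ_ne_zero n)).1 hp.2⟩

theorem polyLT_hs {s : ℕ} (x : Fin s → A)
    (hI : IsFiniteLength A (M ⧸ Ideal.span (Set.range x) • (⊤ : Submodule A M))) :
    PolyLT (s + 1) (hs (Ideal.span (Set.range x)) M) := by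
  let I := Ideal.span (Set.range x)
  let P : ℕ → Submodule A M := fun n => I ^ n • ⊤
  have hP : Raised x P := fun i n m hm => by
    change x i • m ∈ I ^ (n + 1) • (⊤ : Submodule A M)
    rw [pow_succ', mul_smul]
    exact Submodule.smul_mem_smul (Ideal.subset_span (Set.mem_range_self i)) hm
  have hle : ∀ n, P (n + 1) ≤ P n := fun n => Submodule.smul_mono_left (Ideal.pow_le_pow_right (Nat.le_succ n))
  have hfin : ∀ n, relLen (P (n + 1)) (P n) ≠ ⊤ := fun n h =>
    length_quotient_pow_ne_top hI (n + 1) (by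
      change Module.length A (M ⧸ P (n + 1)) = ⊤
      rw [length_quotient_eq (hle n), h, top_add])
  have hgen : ∀ n, P (n + 1) ≤ mulS x (P n) := fun n => by
    change I ^ (n + 1) • (⊤ : Submodule A M) ≤ _
    rw [pow_succ', mul_smul, Submodule.smul_le]
    intro a ha m hm
    induction ha using Submodule.span_induction with
    | mem a ha => obtain ⟨i, rfl⟩ := ha; exact smul_mem_mulS i hm
    | zero => simp
    | add a b _ _ h1 h2 => rw [add_smul]; exact add_mem h1 h2
    | smul c a _ h1 => rw [smul_eq_mul, mul_smul]; exact Submodule.smul_mem _ _ h1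
  obtain ⟨p, hp, N, hN⟩ := polyLT_relLen s x P (fun n => P (n + 1)) hP (fun i n => hP i (n + 1)) hle
    ⟨0, fun n _ => (hgen n).trans le_sup_right⟩ hfin
  refine polyLT_of_diff hp (N := N) fun n hn => ?_
  have e := congrArg ENat.toNat (length_quotient_eq (hle n))
  rw [toNat_add' (hfin n) (length_quotient_pow_ne_top hI n)] at e
  change ((hs I M (n + 1) : ℕ) : ℚ) - (hs I M n : ℕ) = _
  rw [← hN n hn, show hs I M (n + 1) = (relLen (P (n + 1)) (P n)).toNat + hs I M n from e]
  push_cast
  ring

end Groth.Agent.HilbSam
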