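import Groth.Agent.Lib.HilbSam.Poly
import Mathlib.RingTheory.Filtration
import Mathlib.RingTheory.KrullDimension.Module
import Mathlib.RingTheory.Ideal.AssociatedPrime.Localization
import Mathlib.RingTheory.Ideal.MinimalPrime.Noetherian
import Mathlib.Analysis.Polynomial.Basic
import Mathlib.Topology.Algebra.Order.Field

/-!
The degree of the Hilbert–Samuel polynomial bounds the dimension, and existence of parameters.
-/

set_option autoImplicit false

universe u v

open Polynomial Filter

namespace Groth.Agent.HilbSam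

theorem degreeLT_of_abs_le {d : ℕ} {p q : ℚ[X]} (hq : q ∈ degreeLT ℚ d)
    (h : ∀ᶠ n : ℕ in atTop, |p.eval (n : ℚ)| ≤ |q.eval (n : ℚ)|) : p ∈ degreeLT ℚ d := by
  refine mem_degreeLT.2 (lt_of_le_of_lt ?_ (mem_degreeLT.1 hq))
  by_contra hlt
  rw [not_le] at hlt
  rcases eq_or_ne q 0 with rfl | hq0
  · have hp0 : p ≠ 0 := fun hp => by simp [hp] at hlt
    obtain ⟨n, hn1, hn2⟩ := (h.and (tendsto_natCast_atTop_atTop.eventually
      (eventually_atTop_not_isRoot p hp0))).exists
    exact hn2 (by simpa [IsRoot] using hn1)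
  · obtain ⟨n, ⟨hn1, hn2⟩, hn3⟩ := ((h.and ((tendsto_natCast_atTop_atTop (R := ℚ)).eventually
      (eventually_atTop_not_isRoot q hq0))).and ((tendsto_natCast_atTop_atTop (R := ℚ)).eventually
        ((abs_div_tendsto_atTop_atTop_of_degree_gt p q hlt hq0).eventually_gt_atTop 1))).exists
    rw [abs_div, lt_div_iff₀ (abs_pos.2 hn2), one_mul] at hn3
    linarith

theorem comp_shift_sub_mem {d : ℕ} {q : ℚ[X]} (hq : q ∈ degreeLT ℚ (d + 1)) (c : ℚ) :
    q - q.comp (X + C c) ∈ degreeLT ℚ d := by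
  rw [degreeLT_succ_eq_degreeLE, mem_degreeLE] at hq
  rw [mem_degreeLT, degree_lt_iff_coeff_zero]
  intro m hm
  rcases eq_or_ne q 0 with rfl | hq0
  · simp
  have hd : q.natDegree ≤ d := natDegree_le_iff_degree_le.2 hq
  have he : (q.comp (X + C c)).natDegree = q.natDegree := by
    rw [natDegree_comp, natDegree_X_add_C, mul_one]
  rw [coeff_sub]
  rcases Nat.lt_or_ge q.natDegree m with hm' | hm'
  · rw [coeff_eq_zero_of_natDegree_lt hm', coeff_eq_zero_of_natDegree_lt (he ▸ hm'), sub_zero]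
  · obtain rfl : m = q.natDegree := le_antisymm hm' (hd.trans hm)
    have e : (q.comp (X + C c)).leadingCoeff = q.leadingCoeff := by
      rw [leadingCoeff_comp (by rw [natDegree_X_add_C]; exact one_ne_zero), leadingCoeff_X_add_C, one_pow, mul_one]
    rw [leadingCoeff, he] at e
    rw [e, leadingCoeff, sub_self]

variable {A : Type u} [CommRing A]

/-- Chains of primes containing `J` have length at most `d`. -/
def DimLE (J : Ideal A) (d : ℕ) : Prop :=
  ∀ l : LTSeries (PrimeSpectrum A), J ≤ l.head.asIdeal → l.length ≤ d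

theorem supportDim_le_iff {M : Type v} [AddCommGroup M] [Module A M] [Module.Finite A M] (d : ℕ) :
    Module.supportDim A M ≤ d ↔ DimLE (Module.annihilator A M) d := by
  have hs : ∀ p : PrimeSpectrum A, p ∈ Module.support A M ↔ Module.annihilator A M ≤ p.asIdeal := fun p => by
    rw [Module.support_eq_zeroLocus, PrimeSpectrum.mem_zeroLocus]
    rfl
  rw [Module.supportDim, Order.krullDim, iSup_le_iff]
  constructor
  · intro h l hl
    let l' : LTSeries (Module.support A M) :=
      { length := l.length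
        toFun := fun i => ⟨l i, (hs _).2 (hl.trans ((l.head_le i)))⟩
        step := fun i => l.step i }
    have := h l'
    exact_mod_cast this
  · intro h l
    exact_mod_cast h (l.map Subtype.val fun _ _ hab => hab) ((hs _).1 l.head.2)

variable [IsNoetherianRing A] {M : Type v} [AddCommGroup M] [Module A M] [Module.Finite A M]

theorem hs_le_of_surjective {N : Type v} [AddCommGroup N] [Module A N] (I : Ideal A) (f : M →ₗ[A] N)
    (hf : Function.Surjective f) (hI : IsFiniteLength A (M ⧸ I • (⊤ : Submodule A M))) (n : ℕ) :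
    hs I N n ≤ hs I M n := by
  have hmap : (I ^ n • (⊤ : Submodule A M)) ≤ (I ^ n • (⊤ : Submodule A N)).comap f := by
    rw [← Submodule.map_le_iff_le_comap, Submodule.map_smul'']
    exact Submodule.smul_mono le_rfl le_top
  have hs' : Function.Surjective (Submodule.mapQ _ _ f hmap) := fun y => by
    obtain ⟨y, rfl⟩ := Submodule.mkQ_surjective _ y
    obtain ⟨m, rfl⟩ := hf y
    exact ⟨Submodule.mkQ _ m, rfl⟩
  exact ENat.toNat_le_toNat (Module.length_le_of_surjective _ hs') (length_quotient_pow_ne_top hI n)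

theorem exists_hs_le_of_injective {N : Type v} [AddCommGroup N] [Module A N] (I : Ideal A) (f : N →ₗ[A] M)
    (hf : Function.Injective f) (hI : IsFiniteLength A (M ⧸ I • (⊤ : Submodule A M))) :
    ∃ c, ∀ n, hs I N n ≤ hs I M (n + c) := by
  obtain ⟨c, hc⟩ := Ideal.exists_pow_inf_eq_pow_smul I (LinearMap.range f)
  refine ⟨c, fun n => ENat.toNat_le_toNat ?_ (length_quotient_pow_ne_top hI _)⟩
  let g : N →ₗ[A] M ⧸ I ^ (n + c) • (⊤ : Submodule A M) := (Submodule.mkQ _).comp f
  have hk : LinearMap.ker g ≤ I ^ n • ⊤ := fun x hx => by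
    have h1 : f x ∈ I ^ (n + c) • (⊤ : Submodule A M) ⊓ LinearMap.range f :=
      ⟨by simpa [g] using hx, x, rfl⟩
    rw [hc (n + c) (Nat.le_add_left c n), Nat.add_sub_cancel] at h1
    have h2 : f x ∈ (I ^ n • (⊤ : Submodule A N)).map f := by
      rw [Submodule.map_smul'', Submodule.map_top]
      exact Submodule.smul_mono le_rfl inf_le_right h1
    obtain ⟨y, hy, hyx⟩ := h2
    rwa [← hf hyx]
  calc Module.length A (N ⧸ I ^ n • (⊤ : Submodule A N))
      ≤ Module.length A (N ⧸ LinearMap.ker g) :=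
        Module.length_le_of_surjective _ (Submodule.factor_surjective hk)
    _ = Module.length A (LinearMap.range g) := g.quotKerEquivRange.length_eq
    _ ≤ _ := Module.length_le_of_injective _ (Submodule.subtype_injective _)

omit [Module.Finite A M] [IsNoetherianRing A] in
theorem isFiniteLength_quotient_of_surjective {N : Type v} [AddCommGroup N] [Module A N] (I : Ideal A)
    (f : M →ₗ[A] N) (hf : Function.Surjective f) (hI : IsFiniteLength A (M ⧸ I • (⊤ : Submodule A M))) :
    IsFiniteLength A (N ⧸ I • (⊤ : Submodule A N)) := by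
  have hmap : (I • (⊤ : Submodule A M)) ≤ (I • (⊤ : Submodule A N)).comap f := by
    rw [← Submodule.map_le_iff_le_comap, Submodule.map_smul'']
    exact Submodule.smul_mono le_rfl le_top
  refine hI.of_surjective (f := Submodule.mapQ _ _ f hmap) fun y => ?_
  obtain ⟨y, rfl⟩ := Submodule.mkQ_surjective _ y
  obtain ⟨m, rfl⟩ := hf y
  exact ⟨Submodule.mkQ _ m, rfl⟩

omit [Module.Finite A M] in
theorem one_le_hs_quotient_prime {I : Ideal A} (hI : I ≤ Ring.jacobson A) {p : Ideal A} [p.IsPrime]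
    (hfin : IsFiniteLength A ((A ⧸ p) ⧸ I • (⊤ : Submodule A (A ⧸ p)))) (n : ℕ) :
    1 ≤ hs I (A ⧸ p) (n + 1) := by
  obtain ⟨m, hm, hpm⟩ := p.exists_le_maximal (Ideal.IsPrime.ne_top inferInstance)
  have hle : I ^ (n + 1) • (⊤ : Submodule A (A ⧸ p)) ≤ Submodule.map p.mkQ m := by
    rw [Submodule.smul_le]
    intro a ha x _
    obtain ⟨b, rfl⟩ := Submodule.mkQ_surjective _ x
    refine ⟨a * b, m.mul_mem_right b ?_, rfl⟩
    exact (Ideal.pow_le_self (Nat.succ_ne_zero n)).trans
      (hI.trans (by rw [Ring.jacobson_eq_sInf_isMaximal]; exact sInf_le hm)) ha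
  have hne : Nontrivial ((A ⧸ p) ⧸ I ^ (n + 1) • (⊤ : Submodule A (A ⧸ p))) := by
    rw [Submodule.Quotient.nontrivial_iff]
    intro h
    obtain ⟨b, hb, hb1⟩ := hle (h.ge (Submodule.mem_top (x := p.mkQ 1)))
    rw [Submodule.mkQ_apply, Submodule.mkQ_apply, Submodule.Quotient.eq] at hb1
    exact hm.ne_top ((Ideal.eq_top_iff_one _).2 (by
      have := m.sub_mem hb (hpm hb1)
      simpa using this))
  have := (Module.length_pos (R := A) (M := (A ⧸ p) ⧸ I ^ (n + 1) • (⊤ : Submodule A (A ⧸ p))))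
  refine Nat.one_le_iff_ne_zero.2 fun h => ?_
  rcases ENat.toNat_eq_zero.1 h with h | h
  · exact this.ne' h
  · exact length_quotient_pow_ne_top hfin _ h

/-- One step: `deg hs(A/p₁) < deg hs(A/p)` for primes `p < p₁`. -/
theorem degreeLT_step {I : Ideal A} {p p₁ : Ideal A} [p.IsPrime] [p₁.IsPrime] (hlt : p < p₁)
    (hfin : IsFiniteLength A ((A ⧸ p) ⧸ I • (⊤ : Submodule A (A ⧸ p))))
    {d : ℕ} {q : ℚ[X]} (hq : q ∈ degreeLT ℚ (d + 1))
    (hqe : ∀ᶠ n : ℕ in atTop, (hs I (A ⧸ p) n : ℚ) = q.eval (n : ℚ))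
    {q₁ : ℚ[X]} (hq₁e : ∀ᶠ n : ℕ in atTop, (hs I (A ⧸ p₁) n : ℚ) = q₁.eval (n : ℚ)) :
    q₁ ∈ degreeLT ℚ d := by
  obtain ⟨x, hx₁, hx⟩ := SetLike.exists_of_lt hlt
  let B := A ⧸ p
  let μ : B →ₗ[A] B := LinearMap.lsmul A B x
  have hμ : Function.Injective μ := by
    intro a b e
    obtain ⟨a, rfl⟩ := Submodule.mkQ_surjective _ a
    obtain ⟨b, rfl⟩ := Submodule.mkQ_surjective _ b
    change p.mkQ (x • a) = p.mkQ (x • b) at e
    rw [Submodule.mkQ_apply, Submodule.mkQ_apply, Submodule.Quotient.eq, smul_eq_mul, smul_eq_mul, ← mul_sub] at e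
    rw [Submodule.mkQ_apply, Submodule.mkQ_apply, Submodule.Quotient.eq]
    exact ((Ideal.IsPrime.mem_or_mem inferInstance e).resolve_left hx)
  obtain ⟨c, hc⟩ := Ideal.exists_pow_inf_eq_pow_smul I (LinearMap.range μ)
  have key : ∀ n, hs I (A ⧸ p₁) (n + c) + hs I B n ≤ hs I B (n + c) := by
    intro n
    let S : Submodule A B := I ^ (n + c) • ⊤
    let T : Submodule A B := S ⊔ LinearMap.range μ
    let g : B →ₗ[A] B ⧸ S := S.mkQ.comp μ
    have hk : LinearMap.ker g ≤ I ^ n • ⊤ := fun y hy => by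
      have h1 : μ y ∈ I ^ (n + c) • (⊤ : Submodule A B) ⊓ LinearMap.range μ :=
        ⟨by simpa [g, S] using hy, y, rfl⟩
      rw [hc (n + c) (Nat.le_add_left c n), Nat.add_sub_cancel] at h1
      have h2 : μ y ∈ (I ^ n • (⊤ : Submodule A B)).map μ := by
        rw [Submodule.map_smul'', Submodule.map_top]
        exact Submodule.smul_mono le_rfl inf_le_right h1
      obtain ⟨z, hz, hzy⟩ := h2
      rwa [← hμ hzy]
    have hr : LinearMap.range g = T.map S.mkQ := by
      rw [LinearMap.range_comp, Submodule.map_sup, Submodule.mkQ_map_self, bot_sup_eq]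
    have e1 : Module.length A (B ⧸ S) = relLen S T + Module.length A (B ⧸ T) :=
      length_quotient_eq le_sup_left
    have e2 : Module.length A (B ⧸ I ^ n • (⊤ : Submodule A B)) ≤ relLen S T := by
      refine (Module.length_le_of_surjective _ (Submodule.factor_surjective hk)).trans ?_
      rw [g.quotKerEquivRange.length_eq, relLen, ← hr]
    have hT : T ≤ (I ^ (n + c) • (⊤ : Submodule A (A ⧸ p₁))).comap (Submodule.factor hlt.le) := by
      refine sup_le ?_ ?_
      · rw [← Submodule.map_le_iff_le_comap, Submodule.map_smul'']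
        exact Submodule.smul_mono le_rfl le_top
      · rintro _ ⟨y, rfl⟩
        rw [Submodule.mem_comap]
        have : Submodule.factor hlt.le (μ y) = 0 := by
          obtain ⟨a, rfl⟩ := Submodule.mkQ_surjective _ y
          change p₁.mkQ (x • a) = 0
          rw [Submodule.mkQ_apply, Submodule.Quotient.mk_eq_zero]
          exact p₁.mul_mem_right a hx₁
        rw [this]
        exact zero_mem _
    have e3 : Module.length A ((A ⧸ p₁) ⧸ I ^ (n + c) • (⊤ : Submodule A (A ⧸ p₁))) ≤ Module.length A (B ⧸ T) := by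
      refine Module.length_le_of_surjective (Submodule.mapQ T _ (Submodule.factor hlt.le) hT) fun y => ?_
      obtain ⟨y, rfl⟩ := Submodule.mkQ_surjective _ y
      obtain ⟨b, rfl⟩ := Submodule.factor_surjective hlt.le y
      exact ⟨Submodule.mkQ _ b, rfl⟩
    have htot : Module.length A (B ⧸ S) ≠ ⊤ := length_quotient_pow_ne_top hfin _
    rw [e1] at htot
    have ha : relLen S T ≠ ⊤ := fun h => htot (by rw [h, top_add])
    have hb : Module.length A (B ⧸ T) ≠ ⊤ := fun h => htot (by rw [h, add_top])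
    calc hs I (A ⧸ p₁) (n + c) + hs I B n ≤ (Module.length A (B ⧸ T)).toNat + (relLen S T).toNat :=
          add_le_add (ENat.toNat_le_toNat e3 hb) (ENat.toNat_le_toNat e2 ha)
      _ = hs I B (n + c) := by
          rw [add_comm, ← toNat_add' ha hb, ← e1]
          rfl
  refine degreeLT_of_abs_le (comp_shift_sub_mem hq (-(c : ℚ))) ?_
  obtain ⟨N, hN⟩ := Filter.eventually_atTop.1 (hqe.and hq₁e)
  refine Filter.eventually_atTop.2 ⟨N + c, fun n hn => ?_⟩
  obtain ⟨m, rfl⟩ : ∃ m, n = m + c := ⟨n - c, by omega⟩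
  have k : (hs I (A ⧸ p₁) (m + c) : ℚ) + (hs I B m : ℚ) ≤ (hs I B (m + c) : ℚ) := by exact_mod_cast key m
  rw [(hN (m + c) (by omega)).1, (hN (m + c) (by omega)).2, (hN m (by omega)).1] at k
  have e : (q - q.comp (X + C (-(c : ℚ)))).eval ((m + c : ℕ) : ℚ) = q.eval ((m + c : ℕ) : ℚ) - q.eval (m : ℚ) := by
    simp [eval_comp]
  have h0 : 0 ≤ q₁.eval ((m + c : ℕ) : ℚ) := by
    rw [← (hN (m + c) (by omega)).2]
    positivity
  rw [e, abs_of_nonneg h0, abs_of_nonneg (by linarith)]
  linarith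

omit [Module.Finite A M] in
theorem exists_hs_poly {N : Type u} [AddCommGroup N] [Module A N] [Module.Finite A N] {I : Ideal A}
    (hI : IsFiniteLength A (N ⧸ I • (⊤ : Submodule A N))) :
    ∃ d, ∃ q ∈ degreeLT ℚ d, ∀ᶠ n : ℕ in atTop, (hs I N n : ℚ) = q.eval (n : ℚ) := by
  obtain ⟨s, x, hx⟩ := Submodule.fg_iff_exists_fin_generating_family.1 (IsNoetherian.noetherian I)
  subst hx
  obtain ⟨q, hq, N₀, h⟩ := polyLT_hs x hI
  exact ⟨s + 1, q, hq, Filter.eventually_atTop.2 ⟨N₀, h⟩⟩

omit [Module.Finite A M] in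
/-- Chains of primes above `p` are bounded by the degree of the Hilbert–Samuel polynomial of `A ⧸ p`. -/
theorem length_lt_of_hs {I : Ideal A} (hI : I ≤ Ring.jacobson A) :
    ∀ (d : ℕ) (l : LTSeries (PrimeSpectrum A)) (p : Ideal A) [p.IsPrime], p ≤ l.head.asIdeal →
      IsFiniteLength A ((A ⧸ p) ⧸ I • (⊤ : Submodule A (A ⧸ p))) → ∀ q ∈ degreeLT ℚ d,
      (∀ᶠ n : ℕ in atTop, (hs I (A ⧸ p) n : ℚ) = q.eval (n : ℚ)) → l.length < d := by
  intro d
  induction d with
  | zero =>
    intro l p _ _ hfin q hq hqe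
    have hq0 : q = 0 := by
      ext i
      exact (degree_lt_iff_coeff_zero q 0).1 (mem_degreeLT.1 hq) i (Nat.zero_le i)
    obtain ⟨n, hn⟩ := Filter.eventually_atTop.1 hqe
    have h1 := hn (n + 1) (Nat.le_succ n)
    rw [hq0, eval_zero, Nat.cast_eq_zero] at h1
    have := one_le_hs_quotient_prime hI hfin n
    omega
  | succ d ih =>
    intro l p _ hp hfin q hq hqe
    by_cases hl : l.length = 0
    · omega
    have hlt : p < (l.tail hl).head.asIdeal := lt_of_le_of_lt hp (by
      rw [RelSeries.head_tail]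
      exact (PrimeSpectrum.asIdeal_lt_asIdeal _ _).2 (l.strictMono (by
        rw [Fin.lt_def]
        simp [Nat.one_mod_eq_one.2 (show l.length + 1 ≠ 1 by omega)])))
    have hfin₁ := isFiniteLength_quotient_of_surjective I (Submodule.factor hlt.le)
      (Submodule.factor_surjective hlt.le) hfin
    obtain ⟨_, q₁, -, hq₁e⟩ := exists_hs_poly hfin₁
    have := ih (l.tail hl) _ le_rfl hfin₁ q₁ (degreeLT_step hlt hfin hq hqe hq₁e) hq₁e
    simp only [RelSeries.tail_length] at this
    omega

/-- The dimension is less than `d` if the Hilbert–Samuel polynomial has degree `< d`. -/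
theorem dimLE_of_hs {M : Type u} [AddCommGroup M] [Module A M] [Module.Finite A M] {I : Ideal A}
    (hI : I ≤ Ring.jacobson A) (hfin : IsFiniteLength A (M ⧸ I • (⊤ : Submodule A M))) {d : ℕ} {q : ℚ[X]}
    (hq : q ∈ degreeLT ℚ (d + 1)) (hqe : ∀ᶠ n : ℕ in atTop, (hs I M n : ℚ) = q.eval (n : ℚ)) :
    DimLE (Module.annihilator A M) d := by
  intro l hl
  obtain ⟨p, hp, hpl⟩ := Ideal.exists_minimalPrimes_le (J := l.head.asIdeal) hl
  have hass := Module.associatedPrimes.minimalPrimes_annihilator_subset_associatedPrimes A M hp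
  obtain ⟨hprime, m, hm⟩ := isAssociatedPrime_iff.1 (AssociatedPrimes.mem_iff.1 hass)
  let f : (A ⧸ p) →ₗ[A] M := Submodule.liftQ p (LinearMap.toSpanSingleton A M m) (by
    intro a ha
    rw [hm] at ha
    simpa [LinearMap.mem_ker, Submodule.mem_colon_singleton] using ha)
  have hf : Function.Injective f := by
    rw [← LinearMap.ker_eq_bot]
    refine Submodule.ker_liftQ_eq_bot _ _ _ ?_
    intro a ha
    rw [hm]
    simpa [LinearMap.mem_ker, Submodule.mem_colon_singleton] using ha
  have hfinp : IsFiniteLength A ((A ⧸ p) ⧸ I • (⊤ : Submodule A (A ⧸ p))) :=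
    isFiniteLength_of_support fun P hP => by
      rw [Module.support_quotient] at hP
      refine isMaximal_of_mem_support hfin ?_
      rw [Module.support_quotient]
      exact ⟨Module.support_subset_of_injective f hf hP.1, hP.2⟩
  obtain ⟨c, hc⟩ := exists_hs_le_of_injective I f hf hfin
  obtain ⟨_, qp, -, hqp⟩ := exists_hs_poly hfinp
  have hq' : q.comp (X + C (c : ℚ)) ∈ degreeLT ℚ (d + 1) := by
    rcases eq_or_ne q 0 with rfl | hq0
    · simp
    have h1 := (natDegree_lt_iff_degree_lt hq0).2 (mem_degreeLT.1 hq)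
    refine mem_degreeLT.2 (degree_le_natDegree.trans_lt (Nat.cast_lt.2 ?_))
    rwa [natDegree_comp, natDegree_X_add_C, mul_one]
  have hqp' : qp ∈ degreeLT ℚ (d + 1) := by
    refine degreeLT_of_abs_le hq' ?_
    obtain ⟨N, hN⟩ := Filter.eventually_atTop.1 (hqe.and hqp)
    refine Filter.eventually_atTop.2 ⟨N, fun n hn => ?_⟩
    have e : (q.comp (X + C (c : ℚ))).eval (n : ℚ) = (hs I M (n + c) : ℚ) := by
      rw [(hN (n + c) (by omega)).1]
      simp [eval_comp]
    rw [← (hN n hn).2, e, abs_of_nonneg (by positivity), abs_of_nonneg (by positivity)]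
    exact_mod_cast hc n
  have := length_lt_of_hs hI (d + 1) l p hpl hfinp qp hqp' hqp
  omega

omit [Module.Finite A M] in
/-- Existence of parameters in an ideal `r` contained in no non-maximal prime. -/
theorem exists_parameters (r : Ideal A) (hr : ∀ p : Ideal A, p.IsPrime → r ≤ p → p.IsMaximal) :
    ∀ (d : ℕ) (J : Ideal A), DimLE J d → ∃ x : Fin d → A, (∀ i, x i ∈ r) ∧
      ∀ P : PrimeSpectrum A, J ≤ P.asIdeal → (∀ i, x i ∈ P.asIdeal) → P.asIdeal.IsMaximal := by
  classical
  intro d
  induction d with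
  | zero =>
    intro J hJ
    refine ⟨Fin.elim0, fun i => i.elim0, fun P hP _ => ⟨⟨P.2.ne_top, fun m hm => by_contra fun hne => ?_⟩⟩⟩
    obtain ⟨n, hn, hmn⟩ := Ideal.exists_le_maximal m hne
    let Q : PrimeSpectrum A := ⟨n, hn.isPrime⟩
    have hPQ : P < Q := (PrimeSpectrum.asIdeal_lt_asIdeal P Q).1 (lt_of_lt_of_le hm hmn)
    let l : LTSeries (PrimeSpectrum A) := (RelSeries.singleton _ Q).cons P hPQ
    have h1 := hJ l (by simpa [l] using hP)
    simp [l] at h1
  | succ d ih =>
    intro J hJ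
    let T : Finset (Ideal A) := (J.finite_minimalPrimes_of_isNoetherianRing).toFinset.filter fun p => ¬ p.IsMaximal
    have hT : ∀ p ∈ T, p.IsPrime ∧ ¬ p.IsMaximal := fun p hp => by
      rw [Finset.mem_filter, Set.Finite.mem_toFinset] at hp
      exact ⟨hp.1.1.1, hp.2⟩
    obtain ⟨x, hxr, hx⟩ : ∃ x ∈ r, ∀ p ∈ T, x ∉ p := by
      by_contra h
      have hsub : (r : Set A) ⊆ ⋃ p ∈ (↑T : Set (Ideal A)), (p : Set A) := fun a ha => by
        by_contra h'
        simp only [Set.mem_iUnion, not_exists, SetLike.mem_coe] at h'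
        exact h ⟨a, ha, fun p hp => h' p hp⟩
      obtain ⟨p, hp, hle⟩ := (Ideal.subset_union_prime (f := id) ⊥ ⊥ (fun p hp _ _ => (hT p hp).1)).1 hsub
      exact (hT p hp).2 (hr p (hT p hp).1 hle)
    have hJ' : DimLE (J ⊔ Ideal.span {x}) d := by
      intro l hl
      by_cases hl0 : l.length = 0
      · omega
      obtain ⟨p, hp, hpl⟩ := Ideal.exists_minimalPrimes_le (J := l.head.asIdeal) (le_sup_left.trans hl)
      have hlt : p < l.head.asIdeal := by
        rcases hpl.eq_or_lt with e | e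
        · exfalso
          by_cases hmax : p.IsMaximal
          · have h1 : l.head < l 1 := l.strictMono (by
              rw [Fin.lt_def]
              simp [Nat.one_mod_eq_one.2 (show l.length + 1 ≠ 1 by omega)])
            exact (l 1).2.ne_top (hmax.1.2 _ (e.trans_lt ((PrimeSpectrum.asIdeal_lt_asIdeal _ (l 1)).2 h1)))
          · refine hx p (Finset.mem_filter.2 ⟨(Set.Finite.mem_toFinset _).2 hp, hmax⟩) ?_
            rw [e]
            exact hl (Ideal.mem_sup_right (Ideal.mem_span_singleton_self x))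
        · exact e
      have := hJ (l.cons ⟨p, hp.1.1⟩ ((PrimeSpectrum.asIdeal_lt_asIdeal _ _).1 hlt)) (by simpa using hp.1.2)
      simp only [RelSeries.cons_length] at this
      omega
    obtain ⟨y, hy, hyP⟩ := ih _ hJ'
    refine ⟨Fin.cons x y, Fin.cases hxr hy, fun P hP hall => hyP P (sup_le hP ?_) fun i => ?_⟩
    · rw [Ideal.span_singleton_le_iff_mem]
      exact hall 0
    · simpa using hall i.succ

omit [IsNoetherianRing A] [Module.Finite A M] in
theorem jacobson_le_prime [Finite (MaximalSpectrum A)] (p : Ideal A) (hp : p.IsPrime)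
    (h : Ring.jacobson A ≤ p) : p.IsMaximal := by
  classical
  have : Fintype (MaximalSpectrum A) := Fintype.ofFinite _
  have e : (Finset.univ.inf fun m : MaximalSpectrum A => m.asIdeal) ≤ p := by
    refine le_trans ?_ h
    rw [Ring.jacobson_eq_sInf_isMaximal]
    exact le_sInf fun m hm => Finset.inf_le (f := fun m : MaximalSpectrum A => m.asIdeal)
      (Finset.mem_univ (⟨m, hm⟩ : MaximalSpectrum A))
  obtain ⟨m, -, hm⟩ := hp.inf_le'.1 e
  exact (m.isMaximal.eq_of_le hp.ne_top hm) ▸ m.isMaximal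

theorem isFiniteLength_quotient_jacobson [Finite (MaximalSpectrum A)] :
    IsFiniteLength A (M ⧸ Ring.jacobson A • (⊤ : Submodule A M)) :=
  isFiniteLength_of_support fun P hP => by
    rw [Module.support_quotient] at hP
    exact jacobson_le_prime _ P.2 hP.2

theorem exists_parameters_module [Finite (MaximalSpectrum A)] {d : ℕ} (hd : Module.supportDim A M ≤ d) :
    ∃ x : Fin d → A, (∀ i, x i ∈ Ring.jacobson A) ∧
      IsFiniteLength A (M ⧸ Ideal.span (Set.range x) • (⊤ : Submodule A M)) := by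
  obtain ⟨x, hx, hP⟩ := exists_parameters (Ring.jacobson A) jacobson_le_prime d _ ((supportDim_le_iff d).1 hd)
  refine ⟨x, hx, isFiniteLength_of_support fun P hP' => ?_⟩
  rw [Module.support_quotient, Module.support_eq_zeroLocus] at hP'
  exact hP P hP'.1 fun i => hP'.2 (Ideal.subset_span (Set.mem_range_self i))

end Groth.Agent.HilbSam
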