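import Mathlib.RingTheory.MvPolynomial.Homogeneous
import Mathlib.RingTheory.Polynomial.Basic
import Mathlib.RingTheory.Finiteness.Defs
import Mathlib.RingTheory.Noetherian.Basic

/-!
Families of subquotients `Q n ≤ P n` of a module, stable under multiplication by finitely many
elements `x i` (raising the index by one): the Noetherian property (every intermediate family is
eventually generated in one degree).
-/

set_option autoImplicit false

universe u v

open MvPolynomial

namespace Groth.Agent.HilbSam

variable {A : Type u} [CommRing A] {M : Type v} [AddCommGroup M] [Module A M] {s : ℕ}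

/-- `Σ x i • N`. -/
def mulS (x : Fin s → A) (N : Submodule A M) : Submodule A M :=
  ⨆ i, N.map (LinearMap.lsmul A M (x i))

theorem mulS_le_iff {x : Fin s → A} {N N' : Submodule A M} :
    mulS x N ≤ N' ↔ ∀ i, ∀ m ∈ N, x i • m ∈ N' := by
  simp only [mulS, iSup_le_iff, Submodule.map_le_iff_le_comap]
  rfl

theorem smul_mem_mulS {x : Fin s → A} {N : Submodule A M} (i : Fin s) {m : M} (hm : m ∈ N) :
    x i • m ∈ mulS x N :=
  mulS_le_iff.1 le_rfl i m hm

/-- A family of submodules raised by every `x i`. -/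
def Raised (x : Fin s → A) (R : ℕ → Submodule A M) : Prop :=
  ∀ i n, ∀ m ∈ R n, x i • m ∈ R (n + 1)

theorem pow_smul_mem {x : Fin s → A} {R : ℕ → Submodule A M} (hR : Raised x R) (i : Fin s) (b : ℕ) :
    ∀ n, ∀ m ∈ R n, x i ^ b • m ∈ R (n + b) := by
  induction b with
  | zero => intro n m hm; simpa using hm
  | succ b ih =>
    intro n m hm
    rw [pow_succ', mul_smul]
    exact hR i (n + b) _ (ih n m hm)

theorem prod_smul_mem {x : Fin s → A} {R : ℕ → Submodule A M} (hR : Raised x R) (α : Fin s →₀ ℕ) :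
    ∀ n, ∀ m ∈ R n, (α.prod fun i e => x i ^ e) • m ∈ R (n + α.degree) := by
  induction α using Finsupp.induction with
  | zero => intro n m hm; simpa using hm
  | single_add a b f ha hb ih =>
    intro n m hm
    rw [Finsupp.prod_add_index' (by simp) (by intros; exact pow_add _ _ _),
      Finsupp.prod_single_index (by simp), mul_smul, map_add, Finsupp.degree_single, add_comm b, ← add_assoc]
    exact pow_smul_mem hR a b _ _ (ih n m hm)

theorem eval_smul_mem {x : Fin s → A} {R : ℕ → Submodule A M} (hR : Raised x R)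
    {p : MvPolynomial (Fin s) A} {d : ℕ} (hp : p.IsHomogeneous d) {n : ℕ} {m : M} (hm : m ∈ R n) :
    eval x p • m ∈ R (n + d) := by
  rw [p.as_sum, map_sum, Finset.sum_smul]
  refine sum_mem fun α hα => ?_
  have hd : α.degree = d := hp.degree_eq_sum_deg_support hα ▸ rfl
  rw [eval_monomial, mul_smul, ← hd]
  exact Submodule.smul_mem _ _ (prod_smul_mem hR α n m hm)

theorem eval_smul_mem_mulS {x : Fin s → A} {R : ℕ → Submodule A M} (hR : Raised x R)
    {p : MvPolynomial (Fin s) A} {d : ℕ} (hp : p.IsHomogeneous (d + 1)) {n : ℕ} {m : M} (hm : m ∈ R n) :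
    eval x p • m ∈ mulS x (R (n + d)) := by
  rw [p.as_sum, map_sum, Finset.sum_smul]
  refine sum_mem fun α hα => ?_
  have hd : α.degree = d + 1 := hp.degree_eq_sum_deg_support hα ▸ rfl
  obtain ⟨i, hi⟩ : ∃ i, α i ≠ 0 := by
    by_contra h
    simp only [not_exists, not_not] at h
    rw [show α = 0 from Finsupp.ext h] at hd
    simp at hd
  have hle : Finsupp.single i 1 ≤ α := Finsupp.single_le_iff.2 (Nat.one_le_iff_ne_zero.2 hi)
  have hβ : (α - Finsupp.single i 1).degree = d := by
    have e := congrArg Finsupp.degree (tsub_add_cancel_of_le hle)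
    rw [map_add, Finsupp.degree_single, hd] at e
    omega
  rw [eval_monomial, mul_smul]
  refine Submodule.smul_mem _ _ ?_
  rw [← tsub_add_cancel_of_le hle]
  rw [Finsupp.prod_add_index' (by simp) (by intros; exact pow_add _ _ _),
    Finsupp.prod_single_index (by simp), pow_one, mul_comm, mul_smul, ← hβ]
  exact smul_mem_mulS i (prod_smul_mem hR _ n m hm)

variable [IsNoetherianRing A]

/-- The Noetherian property: every intermediate family is eventually generated in one degree. -/
theorem exists_generated [IsNoetherian A M] (x : Fin s → A) (P Q R : ℕ → Submodule A M)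
    (hQ : Raised x Q) (hR : Raised x R)
    (hgen : ∃ N₀, ∀ n ≥ N₀, P (n + 1) ≤ Q (n + 1) ⊔ mulS x (P n))
    (hQR : ∀ n, Q n ≤ R n) (hRP : ∀ n, R n ≤ P n) :
    ∃ N, ∀ n ≥ N, R (n + 1) ≤ Q (n + 1) ⊔ mulS x (R n) := by
  classical
  obtain ⟨N₀, hgen⟩ := hgen
  obtain ⟨g, v, hv⟩ := Submodule.fg_iff_exists_fin_generating_family.1 (IsNoetherian.noetherian (P N₀))
  let E : (Fin g → MvPolynomial (Fin s) A) →ₗ[A] M :=
    ∑ j, (LinearMap.toSpanSingleton A M (v j)).comp ((MvPolynomial.aeval x).toLinearMap.comp (LinearMap.proj j))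
  have hE : ∀ f, E f = ∑ j, eval x (f j) • v j := fun f => by
    simp [E, LinearMap.sum_apply, MvPolynomial.aeval_eq_eval]
  have hEsmul : ∀ (p : MvPolynomial (Fin s) A) f, E (p • f) = eval x p • E f := fun p f => by
    simp only [hE, Finset.smul_sum, Pi.smul_apply, smul_eq_mul, map_mul, mul_smul]
  let H : ℕ → Submodule A (Fin g → MvPolynomial (Fin s) A) := fun d =>
    Submodule.pi Set.univ fun _ => homogeneousSubmodule (Fin s) A d
  have hHmem : ∀ {d f}, f ∈ H d ↔ ∀ j, (f j).IsHomogeneous d := fun {d f} => by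
    simp [H, Submodule.mem_pi]
  have hPgen : ∀ d, P (N₀ + d) ≤ Q (N₀ + d) ⊔ (H d).map E := by
    intro d
    induction d with
    | zero =>
      refine le_sup_of_le_right (hv.ge.trans (Submodule.span_le.2 ?_))
      rintro _ ⟨j, rfl⟩
      refine ⟨Pi.single j 1, hHmem.2 fun i => ?_, ?_⟩
      · rcases eq_or_ne i j with rfl | hne
        · simpa using isHomogeneous_one _ _
        · simpa [Pi.single_eq_of_ne hne] using isHomogeneous_zero _ _ _
      · rw [hE, Finset.sum_eq_single j (fun i _ hne => by simp [Pi.single_eq_of_ne hne]) (by simp)]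
        simp
    | succ d ih =>
      refine (hgen (N₀ + d) (Nat.le_add_right _ _)).trans (sup_le le_sup_left ?_)
      refine mulS_le_iff.2 fun i m hm => ?_
      obtain ⟨q, hq, _, ⟨f, hf, rfl⟩, rfl⟩ := Submodule.mem_sup.1 (ih hm)
      rw [smul_add]
      refine Submodule.add_mem_sup (hQ i _ q hq) ⟨X (R := A) i • f, hHmem.2 fun j => ?_, ?_⟩
      · have := (isHomogeneous_X A i).mul (hHmem.1 hf j)
        rwa [add_comm] at this
      · rw [hEsmul, eval_X]
  let W : Set (Fin g → MvPolynomial (Fin s) A) := {f | ∃ d, f ∈ H d ∧ E f ∈ R (N₀ + d)}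
  obtain ⟨S, hSW, hS⟩ := (Submodule.fg_span_iff_fg_span_finset_subset W).1
    (IsNoetherian.noetherian (Submodule.span (MvPolynomial (Fin s) A) W))
  choose deg hdegH hdegR using fun f : S => hSW f.2
  refine ⟨N₀ + Finset.univ.sup deg, fun n hn m hm => ?_⟩
  obtain ⟨e, rfl⟩ : ∃ e, n = N₀ + e := ⟨n - N₀, by omega⟩
  obtain ⟨q, hq, _, ⟨f, hf, rfl⟩, rfl⟩ := Submodule.mem_sup.1 (hPgen (e + 1) (hRP _ hm))
  refine Submodule.add_mem_sup hq ?_
  have hfW : f ∈ W := ⟨e + 1, hf, (Submodule.add_mem_iff_right _ (hQR _ hq)).1 hm⟩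
  have hfS : f ∈ Submodule.span (MvPolynomial (Fin s) A) (S : Set (Fin g → MvPolynomial (Fin s) A)) :=
    hS ▸ Submodule.subset_span hfW
  obtain ⟨c, -, hc⟩ := Submodule.mem_span_finset.1 hfS
  have hpick : f = ∑ w : S, homogeneousComponent (e + 1 - deg w) (c w.1) • w.1 := by
    funext j
    have e1 : homogeneousComponent (e + 1) (f j) = f j := homogeneousComponent_eq_self (hHmem.1 hf j)
    rw [← e1, ← hc, Finset.sum_apply, map_sum, Finset.sum_apply, ← Finset.sum_coe_sort S]
    refine Finset.sum_congr rfl fun w _ => ?_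
    have hle : deg w ≤ e + 1 := by
      have := Finset.le_sup (f := deg) (Finset.mem_univ w)
      omega
    simp only [Pi.smul_apply, smul_eq_mul]
    have key : ∀ i, homogeneousComponent (e + 1) (homogeneousComponent i (c w.1) * w.1 j) =
        if i = e + 1 - deg w then homogeneousComponent i (c w.1) * w.1 j else 0 := fun i => by
      rw [homogeneousComponent_of_mem ((homogeneousComponent_isHomogeneous i _).mul (hHmem.1 (hdegH w) j))]
      exact if_congr (by omega) rfl rfl
    conv_lhs => rw [← sum_homogeneousComponent (c w.1), Finset.sum_mul, map_sum]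
    simp only [key]
    rw [Finset.sum_ite_eq']
    split_ifs with h
    · rfl
    · rw [homogeneousComponent_eq_zero _ _ (by simp only [Finset.mem_range] at h; omega), zero_mul]
  rw [hpick, map_sum]
  refine sum_mem fun w _ => ?_
  rw [hEsmul]
  have hle : deg w ≤ e := by
    have := Finset.le_sup (f := deg) (Finset.mem_univ w)
    omega
  have := eval_smul_mem_mulS hR (d := e - deg w)
    (by simpa [show e + 1 - deg w = e - deg w + 1 by omega] using homogeneousComponent_isHomogeneous (e + 1 - deg w) (c w.1))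
    (hdegR w)
  rw [show e + 1 - deg w = e - deg w + 1 by omega]
  rwa [show N₀ + deg w + (e - deg w) = N₀ + e by omega] at this

end Groth.Agent.HilbSam
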